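import Groth.Agent.LocImm.Basic
import Groth.Agent.FlatMor.DimOne
import Mathlib.RingTheory.Ideal.KrullsHeightTheorem
import Mathlib.RingTheory.UniqueFactorizationDomain.Ideal
import Mathlib.AlgebraicGeometry.FunctionField

/-! # Purity over factorial local rings -/

set_option autoImplicit false
set_option linter.style.haveILetI false

universe u

open CategoryTheory AlgebraicGeometry

namespace Groth.Agent.PurLib

/-- For a birational extension of a factorial local domain, a prime at which it is not an isomorphism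
contains a prime of height one over a non-principal height. -/
theorem exists_heightOne_not_heightOne {R S : Type u} [CommRing R] [IsDomain R] [UniqueFactorizationMonoid R] [IsNoetherianRing R]
    [CommRing S] [IsDomain S] [IsNoetherianRing S] [IsLocalRing R] [IsLocalRing S]
    (φ : R →+* S) [IsLocalHom φ] (hinj : Function.Injective φ)
    (hfrac : ∀ t : S, ∃ a b : R, b ≠ 0 ∧ φ b * t = φ a) (hne : ¬ Function.Surjective φ) :
    ∃ p : PrimeSpectrum S, p.asIdeal.height = 1 ∧ (p.asIdeal.comap φ).height ≠ 1 := by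
  obtain ⟨t, ht⟩ := not_forall.mp hne
  obtain ⟨a, b, hb, hab⟩ := hfrac t
  obtain ⟨a', b', c, hrel, rfl, rfl⟩ := UniqueFactorizationMonoid.exists_reduced_factors' a b hb
  have hc : c ≠ 0 := left_ne_zero_of_mul hb
  have hb' : b' ≠ 0 := right_ne_zero_of_mul hb
  have hab' : φ b' * t = φ a' := by
    rw [map_mul, map_mul, mul_assoc] at hab
    exact mul_left_cancel₀ ((map_ne_zero_iff φ hinj).mpr hc) hab
  have hnu : ¬ IsUnit (φ b') := fun hu => by
    obtain ⟨v, hv⟩ := isUnit_of_map_unit φ b' hu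
    refine ht ⟨↑v⁻¹ * a', ?_⟩
    have h1 : φ ↑v⁻¹ * φ b' = 1 := by rw [← map_mul, ← hv, Units.inv_mul, map_one]
    rw [map_mul, ← hab', ← mul_assoc, h1, one_mul]
  obtain ⟨p, hp⟩ := Ideal.nonempty_minimalPrimes
    (I := Ideal.span {φ b'}) (fun h => hnu (Ideal.span_singleton_eq_top.mp h))
  haveI := hp.1.1
  have hbp : φ b' ∈ p := hp.1.2 (Ideal.subset_span rfl)
  have hh : p.height = 1 := by
    refine le_antisymm (Ideal.height_le_one_of_isPrincipal_of_mem_minimalPrimes _ p hp) ?_
    rw [ENat.one_le_iff_ne_zero, ne_eq, Ideal.height_eq_zero_iff_eq_bot]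
    intro h
    exact (map_ne_zero_iff φ hinj).mpr hb' ((Submodule.mem_bot _).mp (h ▸ hbp))
  refine ⟨⟨p, inferInstance⟩, hh, fun h1 => ?_⟩
  have hbP : b' ∈ p.comap φ := hbp
  have haP : a' ∈ p.comap φ := by
    show φ a' ∈ p
    rw [← hab']
    exact p.mul_mem_right _ hbp
  have hne0 : p.comap φ ≠ ⊥ := fun h => hb' ((Submodule.mem_bot _).mp (h ▸ hbP))
  obtain ⟨π, hπP, hπ⟩ := (inferInstance : (p.comap φ).IsPrime).exists_mem_prime_of_ne_bot hne0
  haveI : (Ideal.span {π}).IsPrime := (Ideal.span_singleton_prime hπ.ne_zero).mpr hπ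
  have hle : Ideal.span {π} ≤ p.comap φ := (Ideal.span_singleton_le_iff_mem _).mpr hπP
  rcases eq_or_lt_of_le hle with heq | hlt
  · rw [← heq, Ideal.mem_span_singleton] at haP hbP
    exact hπ.not_unit (hrel haP hbP)
  · have := Ideal.height_strict_mono_of_isPrime hlt
    rw [h1, Order.lt_one_iff, Ideal.height_eq_zero_iff_eq_bot, Ideal.span_singleton_eq_bot] at this
    exact hπ.ne_zero this

variable {X Y : Scheme.{u}}

theorem isFractionRing_functionField_injective [IsIntegral X] (x : X) :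
    Function.Injective (X.presheaf.stalkSpecializes ((genericPoint_spec X).specializes (Set.mem_univ x))).hom :=
  IsFractionRing.injective (X.presheaf.stalk x) X.functionField

theorem height_eq_ringKrullDim_stalk (x : X) (p : PrimeSpectrum (X.presheaf.stalk x)) :
    (p.asIdeal.height : WithBot ℕ∞) = ringKrullDim (X.presheaf.stalk (X.fromSpecStalk x p)) := by
  rw [ringKrullDim_stalk_eq_coheight]
  let p' : Spec (X.presheaf.stalk x) := p
  have h1 : Order.coheight p' = Order.coheight (X.fromSpecStalk x p') := by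
    refine Order.coheight_eq_of_strictMono (X.fromSpecStalk x) (fun a b hab => ?_) (fun a b hab => ?_) p'
    · exact lt_iff_le_not_ge.mpr ⟨hab.le.map (X.fromSpecStalk x).continuous, fun h => hab.not_ge
        ((X.fromSpecStalk x).isEmbedding.isInducing.specializes_iff.mp h)⟩
    · obtain ⟨c, rfl⟩ : b ∈ Set.range (X.fromSpecStalk x) := by
        rw [Scheme.range_fromSpecStalk]
        exact Specializes.trans hab.le (FlatMor.DimOne.fromSpecStalk_specializes x a)
      exact ⟨c, lt_iff_le_not_ge.mpr ⟨(X.fromSpecStalk x).isEmbedding.isInducing.specializes_iff.mp hab.le,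
        fun h => hab.not_ge (h.map (X.fromSpecStalk x).continuous)⟩, rfl⟩
  rw [← h1, ← idealHeight_eq_coheight]

/-- Purity of the non-isomorphism locus of a birational morphism to a scheme with factorial local rings. -/
theorem purity [IsIntegral X] [IsLocallyNoetherian X] [IsIntegral Y] [IsLocallyNoetherian Y] (g : X ⟶ Y)
    [LocallyOfFiniteType g] (hY : ∀ y : Y, UniqueFactorizationMonoid (Y.presheaf.stalk y))
    (hV : ∃ (W : X.Opens), (W : Set X).Nonempty ∧ IsOpenImmersion (W.ι ≫ g))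
    (ξ : X) (hξ : ¬ SchLoc.IsLocalIsoAt g ξ) :
    ∃ η : X, η ⤳ ξ ∧ ¬ SchLoc.IsLocalIsoAt g η ∧ ringKrullDim (X.presheaf.stalk η) = 1 := by
  obtain ⟨W, hWne, hW⟩ := hV
  let ζ := genericPoint X
  have hζW : ζ ∈ W := (genericPoint_spec X).mem_open_set_iff W.2 |>.mpr (by simpa using hWne)
  have hiso : ∀ η : X, SchLoc.IsLocalIsoAt g η → Function.Bijective (g.stalkMap η) := fun η ⟨U, hηU, hU⟩ => by
    have h2 : IsIso ((U.ι ≫ g).stalkMap ⟨η, hηU⟩) := inferInstance
    rw [Scheme.Hom.stalkMap_comp] at h2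
    have h3 : IsIso (g.stalkMap η) := @IsIso.of_isIso_comp_right _ _ _ _ _ (g.stalkMap _) _
      (((IsOpenImmersion.iff_isIso_stalkMap (f := U.ι)).1 inferInstance).2 ⟨η, hηU⟩) h2
    exact ConcreteCategory.bijective_of_isIso (g.stalkMap η)
  have hζiso := hiso ζ ⟨W, hζW, hW⟩
  have hgζ : ζ ⤳ ξ := genericPoint_specializes ξ
  have hgen : g ζ = genericPoint Y := by
    have hne : (Set.range (W.ι ≫ g)).Nonempty := ⟨_, ⟨⟨ζ, hζW⟩, rfl⟩⟩
    obtain ⟨⟨z, hz⟩, hzy⟩ := (genericPoint_spec Y).mem_open_set_iff (W.ι ≫ g).isOpenEmbedding.isOpen_range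
      |>.mpr (by simpa using hne)
    have hzy' : g z = genericPoint Y := hzy
    exact (((genericPoint_specializes z).map g.continuous).antisymm
      (hzy' ▸ genericPoint_specializes (g ζ))).eq.trans hzy'
  haveI : UniqueFactorizationMonoid (Y.presheaf.stalk (g ξ)) := hY _
  haveI : IsNoetherianRing (X.presheaf.stalk ξ) := inferInstance
  let φ := (g.stalkMap ξ).hom
  let uX := (X.presheaf.stalkSpecializes hgζ).hom
  let uY := (Y.presheaf.stalkSpecializes (g.base.hom.map_specializes hgζ)).hom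
  have huX : Function.Injective uX := isFractionRing_functionField_injective ξ
  have hcomm : ∀ r, g.stalkMap ζ (uY r) = uX (φ r) := Scheme.Hom.stalkSpecializes_stalkMap_apply g ζ ξ hgζ
  have key : ∀ (p : Y) (hp : p = genericPoint Y) (h : p ⤳ g ξ),
      Function.Injective (Y.presheaf.stalkSpecializes h).hom ∧ ∀ s : Y.presheaf.stalk p, ∃ a b, b ≠ 0 ∧
        (Y.presheaf.stalkSpecializes h).hom b * s = (Y.presheaf.stalkSpecializes h).hom a := by
    rintro _ rfl h
    refine ⟨IsFractionRing.injective (Y.presheaf.stalk (g ξ)) Y.functionField, fun s => ?_⟩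
    obtain ⟨⟨a, b⟩, hab⟩ := IsLocalization.surj (nonZeroDivisors (Y.presheaf.stalk (g ξ))) (S := Y.functionField) s
    exact ⟨a, b, nonZeroDivisors.ne_zero b.2, (mul_comm _ _).trans hab⟩
  obtain ⟨huY, hsurjY⟩ := key _ hgen (g.base.hom.map_specializes hgζ)
  have hinj : Function.Injective φ := fun r s hrs => huY (hζiso.1 (by rw [hcomm, hcomm, hrs]))
  have hfrac : ∀ t, ∃ a b, b ≠ 0 ∧ φ b * t = φ a := fun t => by
    obtain ⟨s, hs⟩ := hζiso.2 (uX t)
    obtain ⟨a, b, hb, hab⟩ := hsurjY s
    refine ⟨a, b, hb, huX ?_⟩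
    rw [map_mul, ← hcomm, ← hcomm, ← hs, ← map_mul]
    exact congrArg _ hab
  have hne : ¬ Function.Surjective φ := fun hs => hξ (by
    haveI : IsIso (g.stalkMap ξ) := (ConcreteCategory.isIso_iff_bijective (g.stalkMap ξ)).mpr ⟨hinj, hs⟩
    exact LocImm.isLocalIsoAt_of_isIso g)
  obtain ⟨p, hp, hp'⟩ := exists_heightOne_not_heightOne φ hinj hfrac hne
  refine ⟨X.fromSpecStalk ξ p, FlatMor.DimOne.fromSpecStalk_specializes ξ p, fun h => hp' ?_, ?_⟩
  · have hb := hiso _ h
    have h1 := height_eq_ringKrullDim_stalk ξ p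
    have h2 := height_eq_ringKrullDim_stalk (g ξ) (PrimeSpectrum.comap φ p)
    have h3 : ringKrullDim (X.presheaf.stalk (X.fromSpecStalk ξ p)) =
        ringKrullDim (Y.presheaf.stalk (g (X.fromSpecStalk ξ p))) :=
      (ringKrullDim_eq_of_ringEquiv (RingEquiv.ofBijective _ hb)).symm
    rw [FlatMor.DimOne.apply_fromSpecStalk] at h3
    have h4 : ((PrimeSpectrum.comap φ p).asIdeal.height : WithBot ℕ∞) = p.asIdeal.height := by
      rw [h1, h2, h3]; rfl
    rw [← hp]
    exact_mod_cast h4
  · rw [← height_eq_ringKrullDim_stalk, hp]; rfl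

end Groth.Agent.PurLib
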